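import Mathlib

/-!
# S4245 (helper24): shared definition

`MetaIdx G p`: the hypotheses of S4245 in a form that passes to quotients: subgroups `B, T ≤ A ≤ G` with
`A` normalizing the cyclic group `B`, `T` a cyclic `2`-group, `A = B T`, and `[G : A]` a power of `p`.
-/

set_option autoImplicit false

namespace Cfsg.Agent.Lib.H24.MI

/-- the hypotheses of S4245 in a form stable under quotients. -/
def MetaIdx (G : Type*) [Group G] (p : ℕ) : Prop :=
  ∃ (A B T : Subgroup G) (s : ℕ), B ≤ A ∧ T ≤ A ∧ A ≤ Subgroup.normalizer (B : Set G) ∧ A ≤ B ⊔ T ∧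
    IsCyclic B ∧ IsCyclic T ∧ IsPGroup 2 T ∧ A.index ∣ p ^ s

end Cfsg.Agent.Lib.H24.MI
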