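import Mathlib
import Cfsg.Agent.Lib.L0.CyclicSylowTwo
import Cfsg.Agent.Lib.H24.MI.Defs

/-!
# S4245 piece K7 core (helper24): the case `|B|` odd, with K4 and K5 as hypotheses
-/

set_option autoImplicit false

universe u

namespace Cfsg.Agent.Lib.H24.MI

/-- K7 with the pieces K4 (`card A = card B * card T`) and K5 (LEMMA L) as explicit hypotheses. -/
theorem solvable_of_odd_of
    (hK5 : ∀ (H : Type u) [Group H] [Finite H] (B : Subgroup H), IsCyclic B → ∀ p s : ℕ, p.Prime →
      B.index ∣ p ^ s → Group.IsSolvable H)
    {G : Type u} [Group G] [Finite G] (p : ℕ) (hp : p.Prime) (A B T : Subgroup G) (s : ℕ)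
    (hBA : B ≤ A) (hB : IsCyclic B)
    (hT : IsCyclic T) (hT2 : IsPGroup 2 T) (hidx : A.index ∣ p ^ s) (hodd : ¬ 2 ∣ Nat.card B)
    (hcard : Nat.card A = Nat.card B * Nat.card T) :
    Group.IsSolvable G := by
  have h2p : Fact (Nat.Prime 2) := ⟨Nat.prime_two⟩
  obtain ⟨e, he⟩ := (IsPGroup.iff_card (p := 2) (G := T)).mp hT2
  -- card G = A.index * card B * 2 ^ e
  have hG : Nat.card G = A.index * Nat.card B * 2 ^ e := by
    rw [← A.index_mul_card, hcard, he, mul_assoc]
  have hBidx : B.index = A.index * 2 ^ e := by
    have h1 := B.index_mul_card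
    rw [hG] at h1
    have hpos : 0 < Nat.card B := Nat.card_pos
    have : B.index * Nat.card B = A.index * 2 ^ e * Nat.card B := by rw [h1]; ring
    exact Nat.eq_of_mul_eq_mul_right hpos this
  by_cases hp2 : p = 2
  · -- `B` has 2-power index
    subst hp2
    refine hK5 G B hB 2 (s + e) hp ?_
    rw [hBidx, pow_add]
    exact Nat.mul_dvd_mul hidx dvd_rfl
  · -- `p` odd
    have hAodd : ¬ 2 ∣ A.index := by
      intro h
      have h' := Nat.Prime.dvd_of_dvd_pow Nat.prime_two (h.trans hidx)
      exact hp2 ((Nat.prime_dvd_prime_iff_eq Nat.prime_two hp).mp h').symm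
    by_cases he0 : e = 0
    · subst he0
      refine hK5 G B hB p s hp ?_
      rw [hBidx, pow_zero, mul_one]
      exact hidx
    · -- `T` is a cyclic Sylow 2-subgroup
      have hodd' : ¬ 2 ∣ A.index * Nat.card B := by
        intro h
        rcases (Nat.Prime.dvd_mul Nat.prime_two).mp h with h | h
        · exact hAodd h
        · exact hodd h
      have hfac : (Nat.card G).factorization 2 = e := by
        rw [hG, Nat.factorization_mul (by
          intro h0
          rw [h0] at hodd'
          exact hodd' (dvd_zero 2)) (by positivity), Nat.Prime.factorization_pow Nat.prime_two]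
        simp [Nat.factorization_eq_zero_of_not_dvd hodd']
      have h2G : 2 ∣ Nat.card G := by
        rw [hG]
        exact Dvd.dvd.mul_left (dvd_pow_self 2 he0) _
      let Q : Sylow 2 G := Sylow.ofCard T (by rw [he, hfac])
      have hQ : ((Q : Subgroup G)) = T := Sylow.coe_ofCard T _
      have hQc : IsCyclic (Q : Subgroup G) := by rw [hQ]; exact hT
      obtain ⟨K, hKn, hKc, hKmem⟩ :=
        Cfsg.Agent.Lib.L0.exists_odd_normal_complement_of_cyclic_sylow Q hQc h2G
      rw [hQ] at hKc
      have hKcard : Nat.card K * 2 ^ e = Nat.card G := by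
        rw [← he]; exact hKc.card_mul
      have hKcard' : Nat.card K = A.index * Nat.card B := by
        have : Nat.card K * 2 ^ e = A.index * Nat.card B * 2 ^ e := by rw [hKcard, hG]
        exact Nat.eq_of_mul_eq_mul_right (by positivity) this
      -- `B ≤ K`
      have hBK : B ≤ K := by
        intro b hb
        rw [hKmem]
        have h1 : orderOf (⟨b, hb⟩ : B) ∣ Nat.card B := orderOf_dvd_natCard _
        have h2 : orderOf b = orderOf (⟨b, hb⟩ : B) := (Subgroup.orderOf_mk b hb).symm
        rw [h2]
        apply Nat.Coprime.symm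
        rw [Nat.Prime.coprime_iff_not_dvd Nat.prime_two]
        exact fun h => hodd (h.trans h1)
      -- the index of `B` in `K`
      have hrel : (B.subgroupOf K).index = A.index := by
        have h1 := (B.subgroupOf K).index_mul_card
        have h2 : Nat.card (B.subgroupOf K) = Nat.card B :=
          Nat.card_congr (Subgroup.subgroupOfEquivOfLe hBK).toEquiv
        rw [h2, hKcard'] at h1
        exact Nat.eq_of_mul_eq_mul_right Nat.card_pos h1
      have hcyc : IsCyclic (B.subgroupOf K) :=
        isCyclic_of_surjective (Subgroup.subgroupOfEquivOfLe hBK).symm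
          (Subgroup.subgroupOfEquivOfLe hBK).symm.surjective
      have hKsol : Group.IsSolvable K := hK5 K (B.subgroupOf K) hcyc p s hp (by rw [hrel]; exact hidx)
      -- `G ⧸ K` is a 2-group
      have hqcard : Nat.card (G ⧸ K) = 2 ^ e := by
        have h1 := K.index_mul_card
        rw [← hKcard, mul_comm] at h1
        have : K.index = 2 ^ e := Nat.eq_of_mul_eq_mul_left Nat.card_pos h1
        rw [← this]; rfl
      have hqp : IsPGroup 2 (G ⧸ K) := IsPGroup.of_card hqcard
      have hqn : Group.IsNilpotent (G ⧸ K) := hqp.isNilpotent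
      have hqs : Group.IsSolvable (G ⧸ K) := inferInstance
      exact Group.isSolvable_of_ker_le_range K.subtype (QuotientGroup.mk' K) (by simp)

end Cfsg.Agent.Lib.H24.MI
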