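import Mathlib

/-!
# S4245 piece K3 (helper24): the involution of a cyclic group normalized by `A` is central in `A`
-/

set_option autoImplicit false
namespace Cfsg.Agent.Lib.H24.MI

/-- in a finite cyclic group, two elements of order 2 coincide. -/
theorem eq_of_orderOf_two {α : Type*} [Group α] [Finite α] [IsCyclic α] (x y : α)
    (hx : orderOf x = 2) (hy : orderOf y = 2) : x = y := by
  classical
  let _inst := Fintype.ofFinite α
  have hle := IsCyclic.card_pow_eq_one_le (α := α) (n := 2) (by norm_num)
  by_contra hne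
  have hx1 : x ≠ 1 := by intro h; rw [h, orderOf_one] at hx; omega
  have hy1 : y ≠ 1 := by intro h; rw [h, orderOf_one] at hy; omega
  have hx2 : x ^ 2 = 1 := by rw [← hx]; exact pow_orderOf_eq_one x
  have hy2 : y ^ 2 = 1 := by rw [← hy]; exact pow_orderOf_eq_one y
  have hsub : ({1, x, y} : Finset α) ⊆ Finset.univ.filter (fun a : α => a ^ 2 = 1) := by
    intro a ha
    simp only [Finset.mem_insert, Finset.mem_singleton] at ha
    simp only [Finset.mem_filter, Finset.mem_univ, true_and]
    rcases ha with rfl | rfl | rfl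
    · exact one_pow 2
    · exact hx2
    · exact hy2
  have hcard : ({1, x, y} : Finset α).card = 3 := by
    rw [Finset.card_insert_of_notMem, Finset.card_insert_of_notMem, Finset.card_singleton]
    · simpa using hne
    · simp only [Finset.mem_insert, Finset.mem_singleton, not_or]
      exact ⟨fun h => hx1 h.symm, fun h => hy1 h.symm⟩
  have := Finset.card_le_card hsub
  omega

theorem central_of_involution {G : Type*} [Group G] [Finite G] (A B : Subgroup G)
    (hn : A ≤ Subgroup.normalizer (B : Set G)) (hB : IsCyclic B) (z : G) (hz : z ∈ B) (hz2 : orderOf z = 2) :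
    ∀ a ∈ A, a * z = z * a := by
  intro a ha
  have hmem : a * z * a⁻¹ ∈ B := ((Subgroup.mem_normalizer_iff.mp (hn ha)) z).mp hz
  have h1 : orderOf (a * z * a⁻¹) = 2 := by
    have h0 : a * z * a⁻¹ = MulAut.conj a z := rfl
    rw [h0, MulEquiv.orderOf_eq]
    exact hz2
  have h2 : (⟨a * z * a⁻¹, hmem⟩ : B) = ⟨z, hz⟩ :=
    eq_of_orderOf_two _ _ (by rw [Subgroup.orderOf_mk]; exact h1) (by rw [Subgroup.orderOf_mk]; exact hz2)
  have h3 : a * z * a⁻¹ = z := congrArg Subtype.val h2
  calc a * z = a * z * a⁻¹ * a := by group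
    _ = z * a := by rw [h3]

end Cfsg.Agent.Lib.H24.MI
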