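import Mathlib
import Cfsg.Agent.Lib.H24.MI.Defs
import Cfsg.Agent.Lib.H24.MI.K2
import Cfsg.Agent.Lib.H24.MI.K3
import Cfsg.Agent.Lib.H24.MI.K7Core
import Cfsg.Agent.Lib.H8.MIK1
import Cfsg.Agent.Lib.H12.MIK4
import Cfsg.Agent.Lib.H19.MIK5
import Cfsg.Agent.Lib.H15.MIK6

/-!
# S4245 (helper24, architect): a subgroup `A` of prime-power index with a normal cyclic subgroup `B`
and `A / B` cyclic of 2-power order forces solvability

Induction on `|G|`.  `|B|` even: the involution `z` of `B` is central in `A`, so its class size divides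
`[G : A] = p ^ s`; by Kazarin's theorem (helper7, landed S4037) `N = ⟨z ^ G⟩` is solvable, and `G ⧸ N`
inherits the hypotheses (`MetaIdx`).  `|B|` odd: `solvable_of_odd` (cyclic Sylow 2-subgroup, normal
2-complement `K ⊇ B`, LEMMA L = helper19's `solvable_of_cyclic_index`).
Pieces: K1 helper8, K4 helper12, K5 helper19, K6 helper15 (twins by helper4, helper10, helper26).
-/

set_option autoImplicit false

namespace Cfsg.Agent.Lib.H24.MI

/-- K7. The case `|B|` odd. -/
theorem solvable_of_odd {G : Type*} [Group G] [Finite G] (p : ℕ) (hp : p.Prime) (A B T : Subgroup G)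
    (s : ℕ) (hBA : B ≤ A) (hTA : T ≤ A) (hn : A ≤ Subgroup.normalizer (B : Set G))
    (hsup : A ≤ B ⊔ T) (hB : IsCyclic B)
    (hT : IsCyclic T) (hT2 : IsPGroup 2 T) (hidx : A.index ∣ p ^ s) (hodd : ¬ 2 ∣ Nat.card B) :
    Group.IsSolvable G := by
  have h2p : Fact (Nat.Prime 2) := ⟨Nat.prime_two⟩
  obtain ⟨e, he⟩ := (IsPGroup.iff_card (p := 2) (G := T)).mp hT2
  have hcop : (Nat.card B).Coprime (Nat.card T) := by
    rw [he]
    apply Nat.Coprime.pow_right
    apply Nat.Coprime.symm
    rw [Nat.Prime.coprime_iff_not_dvd Nat.prime_two]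
    exact hodd
  exact solvable_of_odd_of
    (fun H _ _ B' hB' p' s' hp' h' => Cfsg.Agent.Lib.H19.MI.solvable_of_cyclic_index B' hB' p' s' hp' h')
    p hp A B T s hBA hB hT hT2 hidx hodd
    (Cfsg.Agent.Lib.H12.MI.card_eq_mul A B T hBA hTA hn hsup hcop)

/-- Induction on `|G|`. -/
theorem solvable_of_metaIdx (p : ℕ) (hp : p.Prime) : ∀ (n : ℕ) (G : Type*) [Group G] [Finite G],
    Nat.card G = n → MetaIdx G p → Group.IsSolvable G := by
  intro n
  induction n using Nat.strong_induction_on with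
  | _ n ih =>
    intro G _ _ hn hM
    obtain ⟨A, B, T, s, hBA, hTA, hnorm, hsup, hB, hT, hT2, hidx⟩ := hM
    by_cases h2 : 2 ∣ Nat.card B
    · have : Fact (Nat.Prime 2) := ⟨Nat.prime_two⟩
      obtain ⟨z, hz⟩ := exists_prime_orderOf_dvd_card' (G := B) 2 h2
      have hz2 : orderOf (z : G) = 2 := by rw [Subgroup.orderOf_coe]; exact hz
      have hcent := central_of_involution A B hnorm hB (z : G) z.2 hz2
      have hsol : Group.IsSolvable (Subgroup.normalClosure ({(z : G)} : Set G)) :=
        solvable_normalClosure_of_central A p s hp hidx (z : G) hcent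
      obtain ⟨N, hNdef⟩ : ∃ N : Subgroup G, N = Subgroup.normalClosure ({(z : G)} : Set G) := ⟨_, rfl⟩
      have hNnormal : N.Normal := hNdef ▸ Subgroup.normalClosure_normal
      rw [← hNdef] at hsol
      have hzN : (z : G) ∈ N := hNdef ▸ Subgroup.subset_normalClosure (Set.mem_singleton _)
      have hz1 : (z : G) ≠ 1 := by
        intro h1
        rw [h1, orderOf_one] at hz2
        omega
      have hNbot : N ≠ ⊥ := by
        intro hb
        rw [hb, Subgroup.mem_bot] at hzN
        exact hz1 hzN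
      have hlt : Nat.card (G ⧸ N) < Nat.card G := by
        have h1 := Subgroup.card_eq_card_quotient_mul_card_subgroup N
        have h2' : 1 < Nat.card N := (Subgroup.one_lt_card_iff_ne_bot (H := N)).mpr hNbot
        have h3 : 0 < Nat.card (G ⧸ N) := Nat.card_pos
        nlinarith
      have hq : Group.IsSolvable (G ⧸ N) :=
        ih (Nat.card (G ⧸ N)) (hn ▸ hlt) (G ⧸ N) rfl
          (Cfsg.Agent.Lib.H8.MI.metaIdx_map (QuotientGroup.mk' N) (QuotientGroup.mk'_surjective N) p
            ⟨A, B, T, s, hBA, hTA, hnorm, hsup, hB, hT, hT2, hidx⟩)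
      exact Group.isSolvable_of_ker_le_range N.subtype (QuotientGroup.mk' N) (by simp)
    · exact solvable_of_odd p hp A B T s hBA hTA hnorm hsup hB hT hT2 hidx h2

/-- The frozen statement of S4245. -/
theorem main {G : Type*} [Group G] [Finite G] (A : Subgroup G) (p s : ℕ) (hp : p.Prime)
    (hA : A.index = p ^ s) (B : Subgroup A) [B.Normal] (hB : IsCyclic B) (hAB : IsCyclic (A ⧸ B)) (r : ℕ)
    (hr : Nat.card (A ⧸ B) = 2 ^ r) : Group.IsSolvable G :=
  solvable_of_metaIdx p hp (Nat.card G) G rfl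
    (Cfsg.Agent.Lib.H15.MI.metaIdx_of_hyp A p s hA B hB hAB r hr)

end Cfsg.Agent.Lib.H24.MI
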